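import Mathlib
import Cfsg.Agent.Lib.Classical.Eichler

/-!
Eichler transformations as a total function, their root groups, flips and tori.
-/

set_option autoImplicit false

namespace Cfsg.Agent.Lib.OrthGen

open QuadraticMap
open Cfsg.Agent.Lib.Classical

variable {F : Type*} [Field F] {V : Type*} [AddCommGroup V] [Module F V] (P : QuadraticForm F V)

/-- Eichler transformation, the identity outside its domain. -/
noncomputable def eich (u x : V) : V ≃ₗ[F] V :=
  haveI := Classical.propDecidable (P u = 0 ∧ polar P u x = 0)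
  if h : P u = 0 ∧ polar P u x = 0 then eichlerEquiv P u x h.1 h.2 else 1

variable {P}

theorem eich_apply {u x : V} (hu : P u = 0) (hux : polar P u x = 0) (z : V) :
    eich P u x z = z + polar P z x • u - polar P z u • x - (P x * polar P z u) • u := by
  rw [eich, dif_pos ⟨hu, hux⟩, eichlerEquiv_apply]

theorem eich_mem_iso (u x : V) : eich P u x ∈ isoGroup (F := F) P := by
  rw [eich]
  split_ifs
  · exact eichlerEquiv_mem _ _ _ _ _
  · exact one_mem _

theorem eich_conj {g : V ≃ₗ[F] V} (hg : g ∈ isoGroup (F := F) P) (u x : V) :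
    g * eich P u x * g⁻¹ = eich P (g u) (g x) := by
  have hiff : (P (g u) = 0 ∧ polar P (g u) (g x) = 0) ↔ (P u = 0 ∧ polar P u x = 0) := by
    rw [hg u, isometry_polar hg]
  by_cases h : P u = 0 ∧ polar P u x = 0
  · rw [eich, dif_pos h, eich, dif_pos (hiff.2 h), eichlerEquiv_conj P u x h.1 h.2 hg]
  · rw [eich, dif_neg h, eich, dif_neg (fun e => h (hiff.1 e)), mul_one, mul_inv_cancel]

theorem eich_add {u x y : V} (hu : P u = 0) (hx : polar P u x = 0) (hy : polar P u y = 0) :
    eich P u x * eich P u y = eich P u (x + y) := by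
  have hxy : polar P u (x + y) = 0 := by rw [polar_add_right, hx, hy, add_zero]
  have hyu : polar P y u = 0 := by rw [polar_comm, hy]
  have huu : polar P u u = 0 := by rw [polar_self, hu, smul_zero]
  refine LinearEquiv.ext fun z => ?_
  simp only [LinearEquiv.mul_apply, eich_apply hu hx, eich_apply hu hy, eich_apply hu hxy, polar_add_left,
    polar_sub_left, polar_smul_left, polar_add_right, QuadraticMap.map_add (⇑P), hx, hy, hyu, huu,
    polar_comm (⇑P) y x, smul_eq_mul]
  module

theorem eich_zero (u : V) : eich P u 0 = 1 := by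
  by_cases hu : P u = 0
  · refine LinearEquiv.ext fun z => ?_
    rw [eich_apply hu (polar_zero_right ..)]
    simp
  · rw [eich, dif_neg (fun h => hu h.1)]

theorem eich_inv {u x : V} (hu : P u = 0) (hx : polar P u x = 0) : (eich P u x)⁻¹ = eich P u (-x) :=
  inv_eq_of_mul_eq_one_right (by rw [eich_add hu hx (by rw [polar_neg_right, hx, neg_zero]), add_neg_cancel, eich_zero])

theorem eich_pow {u x : V} (hu : P u = 0) (hx : polar P u x = 0) (n : ℕ) :
    eich P u x ^ n = eich P u ((n : F) • x) := by
  induction n with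
  | zero => simp [eich_zero]
  | succ n ih =>
    rw [pow_succ, ih, eich_add hu (by rw [polar_smul_right, hx, smul_zero]) hx, Nat.cast_succ, _root_.add_smul, one_smul]

theorem eich_smul_left {u x : V} (hu : P u = 0) (hx : polar P u x = 0) (a : F) :
    eich P (a • u) x = eich P u (a • x) := by
  refine LinearEquiv.ext fun z => ?_
  rw [eich_apply (by rw [QuadraticMap.map_smul, hu, smul_zero]) (by rw [polar_smul_left, hx, smul_zero]),
    eich_apply hu (by rw [polar_smul_right, hx, smul_zero])]
  simp only [polar_smul_right, QuadraticMap.map_smul, smul_eq_mul]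
  module

theorem eich_swap {u v : V} (hu : P u = 0) (hv : P v = 0) (huv : polar P u v = 0) :
    eich P v u = eich P u (-v) := by
  refine LinearEquiv.ext fun z => ?_
  rw [eich_apply hv (by rw [polar_comm, huv]), eich_apply hu (by rw [polar_neg_right, huv, neg_zero]),
    QuadraticMap.map_neg, hu, hv, polar_neg_right]
  module

theorem eich_fix {u x y : V} (hyu : polar P y u = 0) (hyx : polar P y x = 0) : eich P u x y = y := by
  by_cases h : P u = 0 ∧ polar P u x = 0
  · rw [eich_apply h.1 h.2, hyu, hyx]; simp
  · rw [eich, dif_neg h]; rfl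

variable (P) in
/-- The group generated by all Eichler transformations. -/
def Gamma : Subgroup (V ≃ₗ[F] V) := Subgroup.closure (Set.range fun p : V × V => eich P p.1 p.2)

theorem eich_mem_Gamma (u x : V) : eich P u x ∈ Gamma P := Subgroup.subset_closure ⟨(u, x), rfl⟩

theorem Gamma_le_iso : Gamma P ≤ isoGroup (F := F) P := by
  rw [Gamma, Subgroup.closure_le]
  rintro _ ⟨⟨u, x⟩, rfl⟩
  exact eich_mem_iso u x

variable (P) in
/-- The flip of the pair `e, f` times the reflection in `r`. -/
noncomputable def flip (e f r : V) : V ≃ₗ[F] V :=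
  eich P e r * eich P f ((P r)⁻¹ • r) * eich P e r

theorem flip_mem_Gamma (e f r : V) : flip P e f r ∈ Gamma P :=
  mul_mem (mul_mem (eich_mem_Gamma _ _) (eich_mem_Gamma _ _)) (eich_mem_Gamma _ _)

theorem flip_apply {e f r : V} (he : P e = 0) (hf : P f = 0) (hef : polar P e f = 1) (her : polar P e r = 0)
    (hfr : polar P f r = 0) (hr : P r ≠ 0) (z : V) :
    flip P e f r z = z - (polar P z r / P r) • r + polar P z f • (-(P r)⁻¹ • f - e)
      + polar P z e • (-P r • e - f) := by
  have hee : polar P e e = 0 := by rw [polar_self, he, smul_zero]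
  have hff : polar P f f = 0 := by rw [polar_self, hf, smul_zero]
  have hre : polar P r e = 0 := by rw [polar_comm, her]
  have hrf : polar P r f = 0 := by rw [polar_comm, hfr]
  have hfe : polar P f e = 1 := by rw [polar_comm, hef]
  have hrr : polar P r r = 2 * P r := by rw [polar_self, two_smul, two_mul]
  simp only [flip, LinearEquiv.mul_apply, eich_apply he her,
    eich_apply hf (show polar P f ((P r)⁻¹ • r) = 0 by rw [polar_smul_right, hfr, smul_zero]),
    polar_add_left, polar_sub_left, polar_smul_left, polar_smul_right, QuadraticMap.map_smul, her, hfr, hre, hrf,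
    hef, hfe, hee, hff, hrr, smul_eq_mul]
  match_scalars <;> field_simp <;> ring

variable (P) in
/-- The torus of the pair `e, f` inside `Gamma`. -/
noncomputable def tor (e f r : V) (μ : F) : V ≃ₗ[F] V := flip P e f (μ • r) * flip P e f r

theorem tor_mem_Gamma (e f r : V) (μ : F) : tor P e f r μ ∈ Gamma P :=
  mul_mem (flip_mem_Gamma _ _ _) (flip_mem_Gamma _ _ _)

theorem tor_apply {e f r : V} (he : P e = 0) (hf : P f = 0) (hef : polar P e f = 1) (her : polar P e r = 0)
    (hfr : polar P f r = 0) (hr : P r ≠ 0) {μ : F} (hμ : μ ≠ 0) (z : V) :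
    tor P e f r μ z = z + ((μ * μ - 1) * polar P z f) • e + (((μ * μ)⁻¹ - 1) * polar P z e) • f := by
  have hee : polar P e e = 0 := by rw [polar_self, he, smul_zero]
  have hff : polar P f f = 0 := by rw [polar_self, hf, smul_zero]
  have hre : polar P r e = 0 := by rw [polar_comm, her]
  have hrf : polar P r f = 0 := by rw [polar_comm, hfr]
  have hfe : polar P f e = 1 := by rw [polar_comm, hef]
  have hrr : polar P r r = 2 * P r := by rw [polar_self, two_smul, two_mul]
  have hμr : P (μ • r) ≠ 0 := by
    rw [QuadraticMap.map_smul, smul_eq_mul]; exact mul_ne_zero (mul_ne_zero hμ hμ) hr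
  simp only [tor, LinearEquiv.mul_apply, flip_apply he hf hef her hfr hr,
    flip_apply he hf hef (show polar P e (μ • r) = 0 by rw [polar_smul_right, her, smul_zero])
      (show polar P f (μ • r) = 0 by rw [polar_smul_right, hfr, smul_zero]) hμr,
    polar_add_left, polar_sub_left, polar_smul_left, polar_smul_right, QuadraticMap.map_smul, polar_neg_left,
    her, hfr, hre, hrf, hef, hfe, hee, hff, hrr, smul_eq_mul]
  match_scalars <;> field_simp <;> ring

variable (P) in
/-- The root group `t ↦ E(u, t x)` lies in `L`. -/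
def RootIn (L : Subgroup (V ≃ₗ[F] V)) (u x : V) : Prop := ∀ t : F, eich P u (t • x) ∈ L

variable {L : Subgroup (V ≃ₗ[F] V)}

theorem RootIn.smul_left {u x : V} (h : RootIn P L u x) (hu : P u = 0) (hx : polar P u x = 0) (a : F) :
    RootIn P L (a • u) x := fun t => by
  rw [eich_smul_left hu (by rw [polar_smul_right, hx, smul_zero]), smul_smul]
  exact h _

theorem RootIn.smul_right {u x : V} (h : RootIn P L u x) (a : F) : RootIn P L u (a • x) := fun t => by
  rw [smul_smul]; exact h _

theorem RootIn.of_smul {u x : V} {a b : F} (ha : a ≠ 0) (hb : b ≠ 0) (hu : P u = 0) (hx : polar P u x = 0)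
    (h : RootIn P L (a • u) (b • x)) : RootIn P L u x := fun t => by
  have := h (t / (a * b))
  rw [smul_smul, eich_smul_left hu (by rw [polar_smul_right, hx, smul_zero]), smul_smul] at this
  rwa [show a * (t / (a * b) * b) = t by field_simp] at this

theorem RootIn.add {u x y : V} (hx : RootIn P L u x) (hy : RootIn P L u y) (hu : P u = 0)
    (hux : polar P u x = 0) (huy : polar P u y = 0) : RootIn P L u (x + y) := fun t => by
  rw [_root_.smul_add, ← eich_add hu (by rw [polar_smul_right, hux, smul_zero]) (by rw [polar_smul_right, huy, smul_zero])]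
  exact L.mul_mem (hx t) (hy t)

theorem RootIn.symm {u x : V} (h : RootIn P L u x) (hu : P u = 0) (hx : P x = 0) (hux : polar P u x = 0) :
    RootIn P L x u := fun t => by
  have hxu : polar P x u = 0 := by rw [polar_comm, hux]
  rw [← eich_smul_left hx hxu, eich_swap hu (by rw [QuadraticMap.map_smul, hx, smul_zero])
    (by rw [polar_smul_right, hux, smul_zero]), ← neg_smul]
  exact h _

theorem RootIn.conj {g : V ≃ₗ[F] V} (hL : L ≤ isoGroup (F := F) P) (hg : g ∈ L) {u x : V} (h : RootIn P L u x) :
    RootIn P L (g u) (g x) := fun t => by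
  rw [← map_smul, ← eich_conj (hL hg)]
  exact L.mul_mem (L.mul_mem hg (h t)) (L.inv_mem hg)

/-- Chaining: `(u, x)` and `(v, y)` with `B(x, v) = 1` give `(u, y)`. -/
theorem RootIn.step (hL : L ≤ isoGroup (F := F) P) {u x v y : V} (h₁ : RootIn P L u x) (h₂ : RootIn P L v y)
    (h₃ : RootIn P L u v ∨ P y = 0) (hu : P u = 0) (hv : P v = 0)
    (hux : polar P u x = 0) (huv : polar P u v = 0) (huy : polar P u y = 0) (hvy : polar P v y = 0)
    (hxv : polar P x v = 1) (hxy : polar P x y = 0) : RootIn P L u y := by
  intro s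
  have hv' : polar P v ((-s) • y) = 0 := by rw [polar_smul_right, hvy, smul_zero]
  have hg := h₂ (-s)
  have hc := h₁.conj hL hg 1
  rw [eich_fix huv (by rw [polar_smul_right, huy, smul_zero]), one_smul, eich_apply hv hv', polar_smul_right, hxy,
    hxv, QuadraticMap.map_smul] at hc
  have hneg := h₁ (-1)
  have key : eich P u ((-(-s * -s * P y)) • v) ∈ L := by
    rcases h₃ with h₃ | h₃
    · exact h₃ _
    · rw [h₃]; simp [eich_zero, L.one_mem]
  have hcv := L.mul_mem (L.mul_mem hneg hc) (L.inv_mem key)
  have e1 : ∀ a : F, polar P u (a • x) = 0 := fun a => by rw [polar_smul_right, hux, smul_zero]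
  have e2 : ∀ a : F, polar P u (a • v) = 0 := fun a => by rw [polar_smul_right, huv, smul_zero]
  rw [eich_inv hu (e2 _), eich_add hu (e1 _) (by
      simp [polar_add_right, polar_sub_right, polar_smul_right, hux, huy, huv]),
    eich_add hu (by simp [polar_add_right, polar_sub_right, polar_smul_right, hux, huy, huv])
      (by simp [polar_smul_right, huv])] at hcv
  convert hcv using 2
  simp only [smul_eq_mul]
  module

/-- Squares span a finite field. -/
theorem all_of_squares [Finite F] {S : F → Prop} (hadd : ∀ s t, S s → S t → S (s + t)) (hneg : ∀ s, S s → S (-s))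
    {β : F} (hβ : β ≠ 0) (hsq : ∀ z : F, S (z * z * β)) (t : F) : S t := by
  by_cases h2 : (2 : F) = 0
  · have : CharP F 2 := CharTwo.of_one_ne_zero_of_two_eq_zero one_ne_zero h2
    obtain ⟨z, hz⟩ : IsSquare (t / β) := FiniteField.isSquare_of_char_two (ringChar.eq F 2) _
    have := hsq z
    rwa [← hz, div_mul_cancel₀ _ hβ] at this
  · have := hadd _ _ (hsq (t / β / (2 * 2) + 1)) (hneg _ (hsq (t / β / (2 * 2) - 1)))
    convert this using 1
    field_simp
    ring

theorem rootIn_of_squares [Finite F] {u x : V} {β : F} (hβ : β ≠ 0) (hu : P u = 0) (hx : polar P u x = 0)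
    (h : ∀ z : F, z ≠ 0 → eich P u ((z * z * β) • x) ∈ L) : RootIn P L u x := by
  have hxa : ∀ a : F, polar P u (a • x) = 0 := fun a => by rw [polar_smul_right, hx, smul_zero]
  refine all_of_squares (S := fun t => eich P u (t • x) ∈ L)
    (fun s t hs ht => by rw [_root_.add_smul, ← eich_add hu (hxa _) (hxa _)]; exact L.mul_mem hs ht)
    (fun s hs => by rw [neg_smul, ← eich_inv hu (hxa _)]; exact L.inv_mem hs) hβ fun z => ?_
  by_cases hz : z = 0
  · subst hz; simp [eich_zero, L.one_mem]
  · exact h z hz

theorem rootIn_of_prime [Finite F] (hq : (Nat.card F).Prime) {u x : V} {β : F} (hβ : β ≠ 0) (hu : P u = 0)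
    (hx : polar P u x = 0) (h : eich P u (β • x) ∈ L) : RootIn P L u x := by
  intro t
  have : Fact (Nat.card F).Prime := ⟨hq⟩
  have hxa : ∀ a : F, polar P u (a • x) = 0 := fun a => by rw [polar_smul_right, hx, smul_zero]
  let A : AddSubgroup F :=
    { carrier := {s | eich P u (s • x) ∈ L}
      zero_mem' := by simp [eich_zero, L.one_mem]
      add_mem' := fun {a b} ha hb => by
        simpa [_root_.add_smul, eich_add hu (hxa a) (hxa b)] using L.mul_mem ha hb
      neg_mem' := fun {a} ha => by simpa [eich_inv hu (hxa a)] using L.inv_mem ha }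
  have ht : t ∈ AddSubgroup.zmultiples β := by rw [zmultiples_eq_top_of_prime_card rfl hβ]; trivial
  exact AddSubgroup.zmultiples_le.2 (show β ∈ A from h) ht

end Cfsg.Agent.Lib.OrthGen
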