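import Cfsg.Agent.Lib.OrthGen.Basic

/-!
Frames of hyperbolic planes over a tail, the Coxeter element and the closure of its root orbits.
-/

set_option autoImplicit false

namespace Cfsg.Agent.Lib.OrthGen

open QuadraticMap
open Cfsg.Agent.Lib.Classical

variable {F : Type*} [Field F] {V : Type*} [AddCommGroup V] [Module F V] {P : QuadraticForm F V}

/-- `N` hyperbolic planes over a tail containing the non-singular `w` and the seed `w0`. -/
structure Frame (P : QuadraticForm F V) (N : ℕ) (e f : ℕ → V) (w w0 : V) : Prop where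
  Qe : ∀ i, P (e i) = 0
  Qf : ∀ i, P (f i) = 0
  ee : ∀ i j, polar P (e i) (e j) = 0
  ff : ∀ i j, polar P (f i) (f j) = 0
  ef : ∀ i, i < N → polar P (e i) (f i) = 1
  ef_ne : ∀ i j, i ≠ j → polar P (e i) (f j) = 0
  we : ∀ i, polar P w (e i) = 0
  wf : ∀ i, polar P w (f i) = 0
  w0e : ∀ i, polar P w0 (e i) = 0
  w0f : ∀ i, polar P w0 (f i) = 0
  hq : P w ≠ 0

variable {N : ℕ} {e f : ℕ → V} {w w0 : V}

theorem Frame.fe_ne (hF : Frame P N e f w w0) {i j : ℕ} (h : i ≠ j) : polar P (f i) (e j) = 0 := by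
  rw [polar_comm, hF.ef_ne j i h.symm]

theorem Frame.fe (hF : Frame P N e f w w0) {i : ℕ} (h : i < N) : polar P (f i) (e i) = 1 := by
  rw [polar_comm, hF.ef i h]

theorem Frame.ew (hF : Frame P N e f w w0) (i : ℕ) : polar P (e i) w = 0 := by rw [polar_comm, hF.we]
theorem Frame.fw (hF : Frame P N e f w w0) (i : ℕ) : polar P (f i) w = 0 := by rw [polar_comm, hF.wf]
theorem Frame.ew0 (hF : Frame P N e f w w0) (i : ℕ) : polar P (e i) w0 = 0 := by rw [polar_comm, hF.w0e]
theorem Frame.fw0 (hF : Frame P N e f w w0) (i : ℕ) : polar P (f i) w0 = 0 := by rw [polar_comm, hF.w0f]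

variable (P) in
/-- The permutation element of two neighbouring planes. -/
noncomputable def nbr (e f : ℕ → V) (i : ℕ) : V ≃ₗ[F] V :=
  eich P (e i) (f (i + 1)) * eich P (f i) (e (i + 1)) * eich P (e i) (f (i + 1))

theorem nbr_fix {i : ℕ} {y : V} (h1 : polar P y (e i) = 0) (h2 : polar P y (f i) = 0)
    (h3 : polar P y (e (i + 1)) = 0) (h4 : polar P y (f (i + 1)) = 0) : nbr P e f i y = y := by
  simp only [nbr, LinearEquiv.mul_apply, eich_fix h1 h4, eich_fix h2 h3]

theorem nbr_vals (hF : Frame P N e f w w0) {i : ℕ} (hi : i + 1 < N) :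
    nbr P e f i (e i) = -e (i + 1) ∧ nbr P e f i (f i) = -f (i + 1) ∧
    nbr P e f i (e (i + 1)) = e i ∧ nbr P e f i (f (i + 1)) = f i := by
  have h1 : i ≠ i + 1 := by omega
  have hef : polar P (e i) (f (i + 1)) = 0 := hF.ef_ne _ _ h1
  have hfe : polar P (f i) (e (i + 1)) = 0 := hF.fe_ne h1
  simp only [nbr, LinearEquiv.mul_apply, eich_apply (hF.Qe i) hef, eich_apply (hF.Qf i) hfe]
  refine ⟨?_, ?_, ?_, ?_⟩ <;>
    simp only [polar_add_left, polar_sub_left, polar_smul_left, hF.ee, hF.ff, hF.ef i (by omega),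
      hF.ef (i + 1) hi, hF.fe (show i < N by omega), hF.fe hi, hF.Qe, hF.Qf, hF.ef_ne _ _ h1,
      hF.ef_ne _ _ h1.symm, hF.fe_ne h1, hF.fe_ne h1.symm, smul_eq_mul] <;>
    module

variable (P) in
/-- Product of the first `k` neighbour permutations. -/
noncomputable def chain (e f : ℕ → V) : ℕ → (V ≃ₗ[F] V)
  | 0 => 1
  | k + 1 => chain e f k * nbr P e f k

theorem chain_mem_Gamma : ∀ k, chain P e f k ∈ Gamma P
  | 0 => one_mem _
  | k + 1 => mul_mem (chain_mem_Gamma k)
      (mul_mem (mul_mem (eich_mem_Gamma _ _) (eich_mem_Gamma _ _)) (eich_mem_Gamma _ _))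

theorem chain_fix : ∀ (k : ℕ) {y : V}, (∀ i, i ≤ k → polar P y (e i) = 0 ∧ polar P y (f i) = 0) →
    chain P e f k y = y
  | 0, y, _ => rfl
  | k + 1, y, h => by
    rw [chain, LinearEquiv.mul_apply, nbr_fix (h k (by omega)).1 (h k (by omega)).2 (h (k + 1) le_rfl).1
      (h (k + 1) le_rfl).2]
    exact chain_fix k fun i hi => h i (by omega)

theorem chain_vals (hF : Frame P N e f w w0) : ∀ {k : ℕ}, k < N →
    (∀ i, i < k → chain P e f k (e i) = -e (i + 1) ∧ chain P e f k (f i) = -f (i + 1)) ∧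
    chain P e f k (e k) = e 0 ∧ chain P e f k (f k) = f 0
  | 0, _ => ⟨fun i hi => absurd hi (Nat.not_lt_zero i), rfl, rfl⟩
  | k + 1, hk => by
    obtain ⟨ih, ihe, ihf⟩ := chain_vals hF (k := k) (by omega)
    obtain ⟨n1, n2, n3, n4⟩ := nbr_vals hF hk
    refine ⟨fun i hi => ?_, ?_, ?_⟩
    · by_cases hik : i = k
      · subst hik
        simp only [chain, LinearEquiv.mul_apply, n1, n2, map_neg]
        exact ⟨by rw [chain_fix i fun j hj => ⟨hF.ee _ _, hF.ef_ne _ _ (by omega)⟩],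
          by rw [chain_fix i fun j hj => ⟨hF.fe_ne (by omega), hF.ff _ _⟩]⟩
      · simp only [chain, LinearEquiv.mul_apply]
        rw [nbr_fix (hF.ee _ _) (hF.ef_ne _ _ hik) (hF.ee _ _) (hF.ef_ne _ _ (by omega)),
          nbr_fix (hF.fe_ne hik) (hF.ff _ _) (hF.fe_ne (by omega)) (hF.ff _ _)]
        exact ih i (by omega)
    · rw [chain, LinearEquiv.mul_apply, n3, ihe]
    · rw [chain, LinearEquiv.mul_apply, n4, ihf]

variable (P) in
/-- The Coxeter element. -/
noncomputable def cox (N : ℕ) (e f : ℕ → V) (w : V) : V ≃ₗ[F] V :=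
  chain P e f (N - 1) * flip P (e (N - 1)) (f (N - 1)) w

theorem cox_mem_Gamma : cox P N e f w ∈ Gamma P :=
  mul_mem (chain_mem_Gamma _) (flip_mem_Gamma _ _ _)

theorem cox_ev (hF : Frame P N e f w w0) {i : ℕ} (hi : i + 1 < N) :
    cox P N e f w (e i) = -e (i + 1) ∧ cox P N e f w (f i) = -f (i + 1) := by
  have hne : i ≠ N - 1 := by omega
  simp only [cox, LinearEquiv.mul_apply]
  rw [flip_apply (hF.Qe _) (hF.Qf _) (hF.ef _ (by omega)) (hF.ew _) (hF.fw _) hF.hq,
    flip_apply (hF.Qe _) (hF.Qf _) (hF.ef _ (by omega)) (hF.ew _) (hF.fw _) hF.hq]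
  simp only [hF.ee, hF.ff, hF.ef_ne _ _ hne, hF.fe_ne hne, hF.ew, hF.fw, zero_div, zero_smul, sub_zero, add_zero]
  exact (chain_vals hF (k := N - 1) (by omega)).1 i (by omega)

theorem cox_ev_last (hF : Frame P N e f w w0) (hN : 1 ≤ N) :
    cox P N e f w (e (N - 1)) = (-(P w)⁻¹) • f 0 ∧ cox P N e f w (f (N - 1)) = (-P w) • e 0 := by
  simp only [cox, LinearEquiv.mul_apply]
  rw [flip_apply (hF.Qe _) (hF.Qf _) (hF.ef _ (by omega)) (hF.ew _) (hF.fw _) hF.hq,
    flip_apply (hF.Qe _) (hF.Qf _) (hF.ef _ (by omega)) (hF.ew _) (hF.fw _) hF.hq]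
  simp only [hF.ee, hF.ff, hF.ef _ (show N - 1 < N by omega), hF.fe (show N - 1 < N by omega), hF.ew, hF.fw,
    zero_div, zero_smul, sub_zero, add_zero, one_smul, add_sub_cancel]
  obtain ⟨-, he, hf⟩ := chain_vals hF (k := N - 1) (by omega)
  constructor <;> simp [he, hf, map_smul]

theorem cox_tail (hF : Frame P N e f w w0) (hN : 1 ≤ N) {y : V} (hye : ∀ i, polar P y (e i) = 0)
    (hyf : ∀ i, polar P y (f i) = 0) : cox P N e f w y = y - (polar P y w / P w) • w := by
  rw [cox, LinearEquiv.mul_apply,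
    flip_apply (hF.Qe _) (hF.Qf _) (hF.ef _ (by omega)) (hF.ew _) (hF.fw _) hF.hq, hye, hyf]
  simp only [zero_smul, add_zero]
  exact chain_fix _ fun i _ => ⟨by simp [hye i, hF.we], by simp [hyf i, hF.wf]⟩

variable {L : Subgroup (V ≃ₗ[F] V)}

theorem shift_roots (hF : Frame P N e f w w0) (hL : L ≤ isoGroup (F := F) P) (hσ : cox P N e f w ∈ L)
    {φ ψ : ℕ → V} (hφ : ∀ i, i + 1 < N → cox P N e f w (φ i) = -φ (i + 1))
    (hψ : ∀ i, i + 1 < N → cox P N e f w (ψ i) = -ψ (i + 1))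
    (hQ : ∀ i, P (φ i) = 0) (ho : ∀ i j, i ≠ j → polar P (φ i) (ψ j) = 0) {a b : ℕ} (hab : a ≠ b)
    (h : RootIn P L (φ a) (ψ b)) : ∀ k, a + k < N → b + k < N → RootIn P L (φ (a + k)) (ψ (b + k)) := by
  intro k
  induction k with
  | zero => intro _ _; exact h
  | succ k ih =>
    intro ha hb
    have := (ih (by omega) (by omega)).conj hL hσ
    rw [hφ _ (by omega), hψ _ (by omega), ← neg_one_smul F (φ _), ← neg_one_smul F (ψ _)] at this
    exact this.of_smul (by simp) (by simp) (hQ _) (ho _ _ (by omega))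

/-- All root groups between different planes. -/
theorem planes_roots (hF : Frame P N e f w w0) (hL : L ≤ isoGroup (F := F) P) (hN : 2 ≤ N)
    (hσ : cox P N e f w ∈ L) (hT : RootIn P L (f 0) (e 1)) {i j : ℕ} (hi : i < N) (hj : j < N) (hij : i ≠ j) :
    RootIn P L (e i) (e j) ∧ RootIn P L (e i) (f j) ∧ RootIn P L (f i) (e j) ∧ RootIn P L (f i) (f j) := by
  have he := fun i hi => (cox_ev hF (i := i) hi).1
  have hf := fun i hi => (cox_ev hF (i := i) hi).2
  obtain ⟨hel, hfl⟩ := cox_ev_last hF (show 1 ≤ N by omega)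
  have step1 : ∀ i, i + 1 < N → RootIn P L (f i) (e (i + 1)) := fun i hi => by
    have := shift_roots hF hL hσ hf he hF.Qf (fun a b h => hF.fe_ne h) (Nat.zero_ne_one) hT i (by omega) (by omega)
    rwa [zero_add, add_comm 1] at this
  have fe : ∀ i j, i < j → j < N → RootIn P L (f i) (e j) := by
    intro i j hij
    induction j with
    | zero => omega
    | succ j ih =>
      intro hj
      by_cases hji : i = j
      · subst hji; exact step1 i hj
      · exact (ih (by omega) (by omega)).step hL (step1 j hj) (Or.inr (hF.Qe _)) (hF.Qf _) (hF.Qf _)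
          (hF.fe_ne hji) (hF.ff _ _) (hF.fe_ne (by omega)) (hF.fe_ne (by omega)) (hF.ef j (by omega)) (hF.ee _ _)
  have ff0 : ∀ k, 1 ≤ k → k < N → RootIn P L (f k) (f 0) := fun k h1 hk => by
    have := (fe (k - 1) (N - 1) (by omega) (by omega)).conj hL hσ
    rw [hf _ (by omega), hel, show k - 1 + 1 = k by omega, ← neg_one_smul F (f k)] at this
    exact this.of_smul (by simp) (by simp [hF.hq]) (hF.Qf _) (hF.ff _ _)
  have ff : ∀ i j, i < j → j < N → RootIn P L (f i) (f j) := fun i j hij hj => by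
    have h := shift_roots hF hL hσ hf hf hF.Qf (fun a b _ => hF.ff a b) (show j - i ≠ 0 by omega)
      (ff0 (j - i) (by omega) (by omega)) i (by omega) (by omega)
    rw [Nat.sub_add_cancel hij.le, zero_add] at h
    exact h.symm (hF.Qf _) (hF.Qf _) (hF.ff _ _)
  have fe0 : ∀ k, 1 ≤ k → k < N → RootIn P L (f k) (e 0) := fun k h1 hk => by
    have := (ff (k - 1) (N - 1) (by omega) (by omega)).conj hL hσ
    rw [hf _ (by omega), hfl, show k - 1 + 1 = k by omega, ← neg_one_smul F (f k)] at this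
    exact this.of_smul (by simp) (by simp [hF.hq]) (hF.Qf _) (hF.fe_ne (by omega))
  have fe' : ∀ i j, i < j → j < N → RootIn P L (f j) (e i) := fun i j hij hj => by
    have h := shift_roots hF hL hσ hf he hF.Qf (fun a b h => hF.fe_ne h) (show j - i ≠ 0 by omega)
      (fe0 (j - i) (by omega) (by omega)) i (by omega) (by omega)
    rwa [Nat.sub_add_cancel hij.le, zero_add] at h
  have ee0 : ∀ k, 1 ≤ k → k < N → RootIn P L (e 0) (e k) := fun k h1 hk => by
    have := (fe' (k - 1) (N - 1) (by omega) (by omega)).conj hL hσ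
    rw [he _ (by omega), hfl, show k - 1 + 1 = k by omega, ← neg_one_smul F (e k)] at this
    exact this.of_smul (by simp [hF.hq]) (by simp) (hF.Qe _) (hF.ee _ _)
  have ee : ∀ i j, i < j → j < N → RootIn P L (e i) (e j) := fun i j hij hj => by
    have h := shift_roots hF hL hσ he he hF.Qe (fun a b _ => hF.ee a b) (show 0 ≠ j - i by omega)
      (ee0 (j - i) (by omega) (by omega)) i (by omega) (by omega)
    rwa [Nat.sub_add_cancel hij.le, zero_add] at h
  have fe_all : ∀ i j, i ≠ j → i < N → j < N → RootIn P L (f i) (e j) := fun i j hij hi hj => by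
    rcases lt_or_gt_of_ne hij with h | h
    exacts [fe i j h hj, fe' j i h hi]
  refine ⟨?_, (fe_all j i hij.symm hj hi).symm (hF.Qf _) (hF.Qe _) (hF.fe_ne hij.symm), fe_all i j hij hi hj, ?_⟩
  · rcases lt_or_gt_of_ne hij with h | h
    exacts [ee i j h hj, (ee j i h hi).symm (hF.Qe _) (hF.Qe _) (hF.ee _ _)]
  · rcases lt_or_gt_of_ne hij with h | h
    exacts [ff i j h hj, (ff j i h hi).symm (hF.Qf _) (hF.Qf _) (hF.ff _ _)]

/-- A root group at one plane vector and a tail vector gives all of them. -/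
theorem tail_roots (hF : Frame P N e f w w0) (hL : L ≤ isoGroup (F := F) P) (hN : 2 ≤ N)
    (hσ : cox P N e f w ∈ L) (hT : RootIn P L (f 0) (e 1)) {y : V} (hye : ∀ i, polar P y (e i) = 0)
    (hyf : ∀ i, polar P y (f i) = 0) {a : ℕ} (ha : a < N) (h : RootIn P L (e a) y ∨ RootIn P L (f a) y) :
    ∀ b, b < N → RootIn P L (e b) y ∧ RootIn P L (f b) y := by
  have hey : ∀ i, polar P (e i) y = 0 := fun i => by rw [polar_comm, hye]
  have hfy : ∀ i, polar P (f i) y = 0 := fun i => by rw [polar_comm, hyf]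
  have move : ∀ a, a < N → (RootIn P L (e a) y ∨ RootIn P L (f a) y) →
      ∀ b, b < N → b ≠ a → RootIn P L (e b) y ∧ RootIn P L (f b) y := by
    intro a ha h b hb hba
    obtain ⟨ee, ef, fe, ff⟩ := planes_roots hF hL hN hσ hT hb ha hba
    rcases h with h | h
    · exact ⟨ef.step hL h (Or.inl ee) (hF.Qe _) (hF.Qe _) (hF.ef_ne _ _ hba) (hF.ee _ _) (hey _) (hey _)
          (hF.fe ha) (hfy _),
        ff.step hL h (Or.inl fe) (hF.Qf _) (hF.Qe _) (hF.ff _ _) (hF.fe_ne hba) (hfy _) (hey _)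
          (hF.fe ha) (hfy _)⟩
    · exact ⟨ee.step hL h (Or.inl ef) (hF.Qe _) (hF.Qf _) (hF.ee _ _) (hF.ef_ne _ _ hba) (hey _) (hfy _)
          (hF.ef a ha) (hey _),
        fe.step hL h (Or.inl ff) (hF.Qf _) (hF.Qf _) (hF.fe_ne hba) (hF.ff _ _) (hfy _) (hfy _)
          (hF.ef a ha) (hey _)⟩
  intro b hb
  by_cases hba : b = a
  · subst hba
    obtain ⟨c, hc, hcb⟩ : ∃ c, c < N ∧ c ≠ b := ⟨if b = 0 then 1 else 0, by split_ifs <;> omega, by split_ifs <;> omega⟩
    exact move c hc (Or.inl (move b hb h c hc hcb).1) b hb hcb.symm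
  · exact move a ha h b hb hba

/-- The set the Eichler transformations at the first plane are taken from. -/
def spanSet (P : QuadraticForm F V) (N : ℕ) (e f : ℕ → V) (w w0 : V) : Set V :=
  {v | ∃ i, 0 < i ∧ i < N ∧ (v = e i ∨ v = f i)} ∪ {w0, w0 - (polar P w0 w / P w) • w}

/-- The Coxeter element and two root groups give all root groups at the first plane. -/
theorem first_plane_roots (hF : Frame P N e f w w0) (hL : L ≤ isoGroup (F := F) P) (hN : 2 ≤ N)
    (hσ : cox P N e f w ∈ L) (hT : RootIn P L (f 0) (e 1)) {a : ℕ} (ha : a < N)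
    (hU : RootIn P L (e a) w0 ∨ RootIn P L (f a) w0) {x : V} (hx : x ∈ Submodule.span F (spanSet P N e f w w0)) :
    eich P (e 0) x ∈ L ∧ eich P (f 0) x ∈ L := by
  have hw0 := tail_roots hF hL hN hσ hT hF.w0e hF.w0f ha hU
  set w1 := w0 - (polar P w0 w / P w) • w with hw1
  have h1e : ∀ i, polar P w1 (e i) = 0 := fun i => by simp [hw1, hF.w0e i, hF.we i]
  have h1f : ∀ i, polar P w1 (f i) = 0 := fun i => by simp [hw1, hF.w0f i, hF.wf i]
  have hr : RootIn P L (e 1) w1 := by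
    have := (hw0 0 (by omega)).1.conj hL hσ
    rw [(cox_ev hF (i := 0) (by omega)).1, cox_tail hF (by omega) hF.w0e hF.w0f, ← hw1, ← neg_one_smul F (e _),
      ← one_smul F w1] at this
    exact this.of_smul (by simp) one_ne_zero (hF.Qe _) (by rw [polar_comm, h1e])
  have hw1' := tail_roots hF hL hN hσ hT h1e h1f (show 1 < N by omega) (Or.inl hr) 0 (by omega)
  suffices h : RootIn P L (e 0) x ∧ RootIn P L (f 0) x ∧ polar P (e 0) x = 0 ∧ polar P (f 0) x = 0 by
    exact ⟨by simpa using h.1 1, by simpa using h.2.1 1⟩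
  induction hx using Submodule.span_induction with
  | mem v hv =>
    rcases hv with ⟨i, hi0, hiN, rfl | rfl⟩ | rfl | rfl
    · obtain ⟨ee, -, fe, -⟩ := planes_roots hF hL hN hσ hT (show 0 < N by omega) hiN (by omega)
      exact ⟨ee, fe, hF.ee _ _, hF.fe_ne (by omega)⟩
    · obtain ⟨-, ef, -, ff⟩ := planes_roots hF hL hN hσ hT (show 0 < N by omega) hiN (by omega)
      exact ⟨ef, ff, hF.ef_ne _ _ (by omega), hF.ff _ _⟩
    · exact ⟨(hw0 0 (by omega)).1, (hw0 0 (by omega)).2, hF.ew0 0, hF.fw0 0⟩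
    · exact ⟨hw1'.1, hw1'.2, by rw [polar_comm, h1e], by rw [polar_comm, h1f]⟩
  | zero => exact ⟨fun t => by simp [eich_zero, L.one_mem], fun t => by simp [eich_zero, L.one_mem], by simp, by simp⟩
  | add u v _ _ hu hv =>
    exact ⟨hu.1.add hv.1 (hF.Qe 0) hu.2.2.1 hv.2.2.1, hu.2.1.add hv.2.1 (hF.Qf 0) hu.2.2.2 hv.2.2.2,
      by rw [polar_add_right, hu.2.2.1, hv.2.2.1, add_zero], by rw [polar_add_right, hu.2.2.2, hv.2.2.2, add_zero]⟩
  | smul c v _ hv =>
    exact ⟨hv.1.smul_right c, hv.2.1.smul_right c, by rw [polar_smul_right, hv.2.2.1, smul_zero],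
      by rw [polar_smul_right, hv.2.2.2, smul_zero]⟩

end Cfsg.Agent.Lib.OrthGen
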