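import Cfsg.Agent.Lib.OrthGen.TwoGen
import Cfsg.Agent.Lib.Classical.EichlerStandard

/-!
The standard orthogonal groups of dimension at least seven are generated by two elements.
-/

set_option autoImplicit false

namespace Cfsg.Agent.Lib.OrthGen

open QuadraticMap
open Cfsg.Agent.Lib.Classical

variable {F : Type*} [Field F] {V : Type*} [AddCommGroup V] [Module F V]

theorem exists_pair_eichler [Finite F] {Q : QuadraticForm F V} {p p' : V} (hnd : IsotropicNondeg Q p p')
    {N : ℕ} {e f : ℕ → F × F × V} {w w0 : F × F × V} (hF : Frame (hypExt Q) N e f w w0) (hN : 3 ≤ N)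
    (he : e 0 = (1, 0, 0)) (hf : f 0 = (0, 1, 0))
    (hspan : ∀ z : V, ((0 : F), (0 : F), z) ∈ Submodule.span F (spanSet (hypExt Q) N e f w w0)) :
    ∃ a b : eichlerGroup Q, Subgroup.closure ({a, b} : Set (eichlerGroup Q)) = ⊤ := by
  obtain ⟨a, ha, b, hb, hab⟩ := exists_gen hF hN
  have hle : Gamma (hypExt Q) ≤ eichlerGroup Q := (Subgroup.closure_le _).2 (by
    rintro _ ⟨⟨u, x⟩, rfl⟩
    show eich (hypExt Q) u x ∈ eichlerGroup Q
    rw [eich]
    split_ifs
    · exact eichlerEquiv_mem_eichler hnd _ _ _ _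
    · exact one_mem _)
  refine ⟨⟨a, hle ha⟩, ⟨b, hle hb⟩, ?_⟩
  refine Subgroup.map_injective (eichlerGroup Q).subtype_injective ?_
  rw [MonoidHom.map_closure, ← MonoidHom.range_eq_map, Subgroup.range_subtype, Set.image_pair]
  refine le_antisymm ((Subgroup.closure_le _).2 (Set.pair_subset (hle ha) (hle hb))) ((Subgroup.closure_le _).2 ?_)
  have hS : ∀ z : V, hypSiegel Q z = eich (hypExt Q) (1, 0, 0) (0, 0, -z) := fun z => by
    have h1 : hypExt Q ((1 : F), (0 : F), (0 : V)) = 0 := by simp [hypExt_apply]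
    have h2 : polar (hypExt Q) ((1 : F), (0 : F), (0 : V)) ((0 : F), (0 : F), -z) = 0 := by simp [polar_hypExt]
    rw [eich, dif_pos ⟨h1, h2⟩, hypSiegel_eq_eichler]
  rintro _ (⟨z, rfl⟩ | ⟨z, rfl⟩)
  · have := (hab _ (hspan (-z))).1
    rwa [he, ← hS] at this
  · have := (hab _ (hspan (-z))).2
    rw [hf] at this
    have e : hypSiegel' Q z = eich (hypExt Q) (0, 1, 0) (0, 0, -z) := by
      rw [hypSiegel', hS]
      conv_lhs => arg 2; rw [← inv_eq_of_mul_eq_one_right (hypSwap_mul_self (F := F) (V := V))]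
      rw [eich_conj (hypSwap_mem Q), hypSwap_apply, hypSwap_apply]
    show hypSiegel' Q z ∈ Subgroup.closure _
    rw [e]; exact this

theorem exists_pair_POmega [Finite F] [FiniteDimensional F V] {ι : Type} [Fintype ι] [DecidableEq ι]
    {P : QuadraticForm F (ι → F)} {Q : QuadraticForm F V} {p p' : V} (M : TwoPlaneModel P Q)
    (hnd : IsotropicNondeg Q p p')
    (h : ∃ a b : eichlerGroup (hypExt Q), Subgroup.closure ({a, b} : Set (eichlerGroup (hypExt Q))) = ⊤) :
    ∃ a b : Cfsg.POmega F ⇑P, Subgroup.closure ({a, b} : Set (Cfsg.POmega F ⇑P)) = ⊤ := by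
  obtain ⟨a, b, hab⟩ := h
  set φ := (QuotientGroup.mk' (Subgroup.center (Cfsg.Omega F ⇑P))).comp (M.omegaEquiv hnd).symm.toMonoidHom with hφ
  refine ⟨φ a, φ b, ?_⟩
  rw [← Set.image_pair, ← MonoidHom.map_closure, hab]
  exact Subgroup.map_top_of_surjective _ ((QuotientGroup.mk'_surjective _).comp (M.omegaEquiv hnd).symm.surjective)

/-! ### frames of towers -/

section Tower

variable {m : ℕ} (Q : QuadraticForm F V)

theorem polar_hypTower (p p' : (Fin m → F) × (Fin m → F) × V) :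
    polar (hypTower m Q) p p' = (∑ i, (p.1 i * p'.2.1 i + p'.1 i * p.2.1 i)) + polar Q p.2.2 p'.2.2 := by
  simp only [polar, hypTower_apply, Prod.fst_add, Prod.snd_add, Pi.add_apply]
  simp only [add_mul, mul_add, Finset.sum_add_distrib]
  ring

variable (F V) in
/-- `e_i` for `i < N`. -/
def evT (m N i : ℕ) : (Fin m → F) × (Fin m → F) × V :=
  if h : i < N ∧ i < m then (Pi.single ⟨i, h.2⟩ 1, 0, 0) else 0

variable (F V) in
/-- `f_i` for `i < N`. -/
def fvT (m N i : ℕ) : (Fin m → F) × (Fin m → F) × V :=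
  if h : i < N ∧ i < m then (0, Pi.single ⟨i, h.2⟩ 1, 0) else 0

theorem hypTower_evT (N i : ℕ) : hypTower m Q (evT F V m N i) = 0 := by
  rw [evT]; split_ifs <;> simp [hypTower_apply]

theorem hypTower_fvT (N i : ℕ) : hypTower m Q (fvT F V m N i) = 0 := by
  rw [fvT]; split_ifs <;> simp [hypTower_apply]

theorem polar_evT (p : (Fin m → F) × (Fin m → F) × V) (N i : ℕ) :
    polar (hypTower m Q) p (evT F V m N i) = if h : i < N ∧ i < m then p.2.1 ⟨i, h.2⟩ else 0 := by
  rw [evT]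
  split_ifs with h
  · simp [polar_hypTower, Pi.single_apply]
  · simp

theorem polar_fvT (p : (Fin m → F) × (Fin m → F) × V) (N i : ℕ) :
    polar (hypTower m Q) p (fvT F V m N i) = if h : i < N ∧ i < m then p.1 ⟨i, h.2⟩ else 0 := by
  rw [fvT]
  split_ifs with h
  · simp [polar_hypTower, Pi.single_apply]
  · simp

theorem frame_tower {N : ℕ} (hNm : N ≤ m) {w w0 : (Fin m → F) × (Fin m → F) × V}
    (hw : hypTower m Q w ≠ 0)
    (hwz : ∀ j : Fin m, (j : ℕ) < N → w.1 j = 0 ∧ w.2.1 j = 0 ∧ w0.1 j = 0 ∧ w0.2.1 j = 0) :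
    Frame (hypTower m Q) N (evT F V m N) (fvT F V m N) w w0 where
  Qe i := hypTower_evT Q N i
  Qf i := hypTower_fvT Q N i
  ee i j := by rw [polar_evT]; split_ifs <;> simp [evT] <;> split_ifs <;> simp
  ff i j := by rw [polar_fvT]; split_ifs <;> simp [fvT] <;> split_ifs <;> simp
  ef i hi := by rw [polar_fvT, dif_pos ⟨hi, by omega⟩, evT, dif_pos ⟨hi, by omega⟩]; simp
  ef_ne i j hij := by
    rw [polar_fvT]
    split_ifs with h
    · rw [evT]; split_ifs <;> simp [Pi.single_apply, Fin.ext_iff, Ne.symm hij]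
    · rfl
  we i := by rw [polar_evT]; split_ifs with h; exacts [(hwz _ h.1).2.1, rfl]
  wf i := by rw [polar_fvT]; split_ifs with h; exacts [(hwz _ h.1).1, rfl]
  w0e i := by rw [polar_evT]; split_ifs with h; exacts [(hwz _ h.1).2.2.2, rfl]
  w0f i := by rw [polar_fvT]; split_ifs with h; exacts [(hwz _ h.1).2.2.1, rfl]
  hq := hw

theorem Frame.map {W : Type*} [AddCommGroup W] [Module F W] {P : QuadraticForm F V} {P' : QuadraticForm F W}
    (Φ : V ≃ₗ[F] W) (hΦ : ∀ v, P' (Φ v) = P v) {N : ℕ} {e f : ℕ → V} {w w0 : V} (hF : Frame P N e f w w0) :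
    Frame P' N (fun i => Φ (e i)) (fun i => Φ (f i)) (Φ w) (Φ w0) := by
  have hp : ∀ u v, polar P' (Φ u) (Φ v) = polar P u v := polar_comp_equiv Φ hΦ
  constructor <;> intros <;> simp only [hΦ, hp, ne_eq]
  exacts [hF.Qe _, hF.Qf _, hF.ee _ _, hF.ff _ _, hF.ef _ ‹_›, hF.ef_ne _ _ ‹_›, hF.we _, hF.wf _, hF.w0e _,
    hF.w0f _, hF.hq]

theorem map_spanSet {W : Type*} [AddCommGroup W] [Module F W] {P : QuadraticForm F V} {P' : QuadraticForm F W}
    (Φ : V ≃ₗ[F] W) (hΦ : ∀ v, P' (Φ v) = P v) {N : ℕ} {e f : ℕ → V} {w w0 x : V}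
    (hx : x ∈ Submodule.span F (spanSet P N e f w w0)) :
    Φ x ∈ Submodule.span F (spanSet P' N (fun i => Φ (e i)) (fun i => Φ (f i)) (Φ w) (Φ w0)) := by
  have h := Submodule.mem_map_of_mem (f := (Φ : V →ₗ[F] W)) hx
  rw [Submodule.map_span] at h
  refine Submodule.span_mono ?_ h
  rintro _ ⟨v, (⟨i, h1, h2, rfl | rfl⟩ | rfl | rfl), rfl⟩
  · exact Or.inl ⟨i, h1, h2, Or.inl rfl⟩
  · exact Or.inl ⟨i, h1, h2, Or.inr rfl⟩
  · exact Or.inr (Or.inl rfl)
  · refine Or.inr (Or.inr ?_)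
    simp [hΦ, polar_comp_equiv Φ hΦ]

end Tower

theorem mem_span_tower {m N : ℕ} {Q : QuadraticForm F V} {w w0 : (Fin m → F) × (Fin m → F) × V}
    (hlast : ∀ (j : Fin m), N ≤ (j : ℕ) →
      ((Pi.single j 1, 0, 0) : (Fin m → F) × (Fin m → F) × V) ∈
          Submodule.span F (spanSet (hypTower m Q) N (evT F V m N) (fvT F V m N) w w0) ∧
      ((0, Pi.single j 1, 0) : (Fin m → F) × (Fin m → F) × V) ∈
          Submodule.span F (spanSet (hypTower m Q) N (evT F V m N) (fvT F V m N) w w0))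
    (htail : ∀ z : V, ((0, 0, z) : (Fin m → F) × (Fin m → F) × V) ∈
      Submodule.span F (spanSet (hypTower m Q) N (evT F V m N) (fvT F V m N) w w0))
    {p : (Fin m → F) × (Fin m → F) × V} (hp : ∀ j : Fin m, (j : ℕ) = 0 → p.1 j = 0 ∧ p.2.1 j = 0) :
    p ∈ Submodule.span F (spanSet (hypTower m Q) N (evT F V m N) (fvT F V m N) w w0) := by
  set S := Submodule.span F (spanSet (hypTower m Q) N (evT F V m N) (fvT F V m N) w w0)
  have key : p = (∑ j, (p.1 j • ((Pi.single j 1, 0, 0) : (Fin m → F) × (Fin m → F) × V)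
      + p.2.1 j • ((0, Pi.single j 1, 0) : (Fin m → F) × (Fin m → F) × V))) + (0, 0, p.2.2) := by
    refine Prod.ext ?_ (Prod.ext ?_ ?_)
    · funext i; simp [Prod.fst_sum, Finset.sum_apply, Pi.single_apply]
    · funext i; simp [Prod.fst_sum, Prod.snd_sum, Finset.sum_apply, Pi.single_apply]
    · simp [Prod.snd_sum]
  rw [key]
  refine S.add_mem (S.sum_mem fun j _ => ?_) (htail _)
  by_cases hj0 : (j : ℕ) = 0
  · simp [(hp j hj0).1, (hp j hj0).2]
  by_cases hjN : (j : ℕ) < N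
  · refine S.add_mem (S.smul_mem _ (Submodule.subset_span (Or.inl ⟨j, Nat.pos_of_ne_zero hj0, hjN, Or.inl ?_⟩)))
      (S.smul_mem _ (Submodule.subset_span (Or.inl ⟨j, Nat.pos_of_ne_zero hj0, hjN, Or.inr ?_⟩)))
    · rw [evT, dif_pos ⟨hjN, j.isLt⟩]
    · rw [fvT, dif_pos ⟨hjN, j.isLt⟩]
  · exact S.add_mem (S.smul_mem _ (hlast j (by omega)).1) (S.smul_mem _ (hlast j (by omega)).2)

theorem exists_pair_tower [Finite F] {Q : QuadraticForm F V} (hQ : ∀ z, (∀ w, polar Q z w = 0) → z = 0) {k N : ℕ}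
    (hN : 3 ≤ N) (hNm : N ≤ k + 3)
    {w w0 : (Fin (k + 3) → F) × (Fin (k + 3) → F) × V} (hw : hypTower (k + 3) Q w ≠ 0)
    (hwz : ∀ j : Fin (k + 3), (j : ℕ) < N → w.1 j = 0 ∧ w.2.1 j = 0 ∧ w0.1 j = 0 ∧ w0.2.1 j = 0)
    (hlast : ∀ (j : Fin (k + 3)), N ≤ (j : ℕ) →
      ((Pi.single j 1, 0, 0) : (Fin (k + 3) → F) × (Fin (k + 3) → F) × V) ∈
          Submodule.span F (spanSet (hypTower (k + 3) Q) N (evT F V (k + 3) N) (fvT F V (k + 3) N) w w0) ∧
      ((0, Pi.single j 1, 0) : (Fin (k + 3) → F) × (Fin (k + 3) → F) × V) ∈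
          Submodule.span F (spanSet (hypTower (k + 3) Q) N (evT F V (k + 3) N) (fvT F V (k + 3) N) w w0))
    (htail : ∀ z : V, ((0, 0, z) : (Fin (k + 3) → F) × (Fin (k + 3) → F) × V) ∈
      Submodule.span F (spanSet (hypTower (k + 3) Q) N (evT F V (k + 3) N) (fvT F V (k + 3) N) w w0)) :
    ∃ a b : eichlerGroup (hypExt (hypTower (k + 1) Q)),
      Subgroup.closure ({a, b} : Set (eichlerGroup (hypExt (hypTower (k + 1) Q)))) = ⊤ := by
  set Φ := towerTwoPlanes (F := F) (V := V) (k + 1)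
  have hΦ : ∀ p, hypExt (hypExt (hypTower (k + 1) Q)) (Φ p) = hypTower (k + 3) Q p := towerTwoPlanes_spec (k + 1)
  have he : evT F V (k + 3) N 0 = (Pi.single 0 1, 0, 0) := by rw [evT, dif_pos ⟨by omega, by omega⟩]; rfl
  have hf : fvT F V (k + 3) N 0 = (0, Pi.single 0 1, 0) := by rw [fvT, dif_pos ⟨by omega, by omega⟩]; rfl
  refine exists_pair_eichler (isotropicNondeg_hypTower hQ k).ext
    ((frame_tower Q hNm hw hwz).map Φ hΦ) hN ?_ ?_ fun z => ?_
  · refine Φ.symm.injective ?_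
    rw [Φ.symm_apply_apply, he]
    refine Prod.ext ?_ (Prod.ext ?_ ?_)
    · funext i; cases i using Fin.cases with
      | zero => simp [Φ, towerTwoPlanes, towerSucc]
      | succ i => cases i using Fin.cases <;> simp [Φ, towerTwoPlanes, towerSucc, Fin.succ_ne_zero]
    · funext i; cases i using Fin.cases with
      | zero => simp [Φ, towerTwoPlanes, towerSucc]
      | succ i => cases i using Fin.cases <;> simp [Φ, towerTwoPlanes, towerSucc]
    · simp [Φ, towerTwoPlanes, towerSucc]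
  · refine Φ.symm.injective ?_
    rw [Φ.symm_apply_apply, hf]
    refine Prod.ext ?_ (Prod.ext ?_ ?_)
    · funext i; cases i using Fin.cases with
      | zero => simp [Φ, towerTwoPlanes, towerSucc]
      | succ i => cases i using Fin.cases <;> simp [Φ, towerTwoPlanes, towerSucc]
    · funext i; cases i using Fin.cases with
      | zero => simp [Φ, towerTwoPlanes, towerSucc]
      | succ i => cases i using Fin.cases <;> simp [Φ, towerTwoPlanes, towerSucc, Fin.succ_ne_zero]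
    · simp [Φ, towerTwoPlanes, towerSucc]
  · rw [← Φ.apply_symm_apply ((0 : F), (0 : F), z)]
    refine map_spanSet Φ hΦ (mem_span_tower hlast htail fun j hj => ?_)
    obtain rfl : j = 0 := Fin.ext hj
    simp [Φ, towerTwoPlanes, towerSucc]

/-! ### the three families -/

theorem exists_pair_plus [Finite F] (k : ℕ) :
    ∃ a b : Cfsg.POmega F (Cfsg.quadFormPlus (k + 4) F),
      Subgroup.closure ({a, b} : Set (Cfsg.POmega F (Cfsg.quadFormPlus (k + 4) F))) = ⊤ := by
  have ftF : Fintype F := Fintype.ofFinite F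
  rw [← coe_plusForm]
  refine exists_pair_POmega (plusModel (k + 1)) (isotropicNondeg_hypTower nondeg_zero_fin (k + 1)) ?_
  set l : Fin (k + 4) := Fin.last (k + 3)
  have hl : ∀ j : Fin (k + 4), (j : ℕ) < k + 3 → j ≠ l := fun j hj e => by rw [e] at hj; simp [l] at hj
  refine exists_pair_tower nondeg_zero_fin (k := k + 1) (N := k + 3) (by omega) (by omega)
    (w := (Pi.single l 1, Pi.single l 1, 0)) (w0 := (Pi.single l 1, 0, 0))
    (by simp [hypTower_apply, Pi.single_apply]) (fun j hj => by simp [Pi.single_apply, hl j hj]) (fun j hj => ?_)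
    fun z => by rw [Subsingleton.elim z 0]; exact Submodule.zero_mem _
  obtain rfl : j = l := Fin.ext (by have := j.isLt; simp [l]; omega)
  refine ⟨Submodule.subset_span (Or.inr (Or.inl rfl)), ?_⟩
  rw [← neg_neg ((0, Pi.single l 1, 0) : (Fin (k + 4) → F) × (Fin (k + 4) → F) × (Fin 0 → F))]
  refine Submodule.neg_mem _ (Submodule.subset_span (Or.inr (Or.inr ?_)))
  simp [polar_hypTower, hypTower_apply, Pi.single_apply, polar]

theorem exists_pair_odd [Finite F] (h2 : (2 : F) ≠ 0) (k : ℕ) :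
    ∃ a b : Cfsg.POmega F (Cfsg.quadFormOdd (k + 3) F),
      Subgroup.closure ({a, b} : Set (Cfsg.POmega F (Cfsg.quadFormOdd (k + 3) F))) = ⊤ := by
  rw [← coe_oddQuadForm]
  refine exists_pair_POmega (oddModel k) (isotropicNondeg_hypTower (nondeg_sq h2) k) ?_
  refine exists_pair_tower (nondeg_sq h2) (k := k) (N := k + 3) (by omega) le_rfl
    (w := (0, 0, 1)) (w0 := (0, 0, 1)) (by simp [hypTower_apply]) (fun j _ => by simp)
    (fun j hj => absurd j.isLt (by omega)) fun z => ?_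
  rw [show ((0, 0, z) : (Fin (k + 3) → F) × (Fin (k + 3) → F) × F) = z • (0, 0, 1) by simp]
  exact Submodule.smul_mem _ _ (Submodule.subset_span (Or.inr (Or.inl rfl)))

theorem exists_pair_minus [Finite F] {a b : F} (hab : BinAniso a b) (k : ℕ) :
    ∃ g h : Cfsg.POmega F (Cfsg.quadFormMinus (k + 3) F a b),
      Subgroup.closure ({g, h} : Set (Cfsg.POmega F (Cfsg.quadFormMinus (k + 3) F a b))) = ⊤ := by
  have ftF : Fintype F := Fintype.ofFinite F
  rw [← coe_minusForm]
  refine exists_pair_POmega (minusModel k a b) (isotropicNondeg_hypTower (nondeg_binQ hab) k) ?_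
  obtain ⟨s, hs⟩ : ∃ s : F, 2 * s + a ≠ 0 := by
    by_cases ha : a = 0
    · refine ⟨1, fun h22 => ?_⟩
      rw [ha, mul_one, add_zero] at h22
      haveI : CharP F 2 := CharTwo.of_one_ne_zero_of_two_eq_zero one_ne_zero h22
      obtain ⟨r, hr⟩ := FiniteField.isSquare_of_char_two (ringChar.eq F 2) b
      exact one_ne_zero (hab r 1 (by rw [ha, hr]; linear_combination r * r * h22)).2
    · exact ⟨0, by simpa using ha⟩
  refine exists_pair_tower (nondeg_binQ hab) (k := k) (N := k + 3) (by omega) le_rfl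
    (w := (0, 0, (1, 0))) (w0 := (0, 0, (s, 1))) (by simp [hypTower_apply, binQ_apply]) (fun j _ => by simp)
    (fun j hj => absurd j.isLt (by omega)) fun z => ?_
  set S := Submodule.span F (spanSet (hypTower (k + 3) (binQ a b)) (k + 3) (evT F (F × F) (k + 3) (k + 3))
    (fvT F (F × F) (k + 3) (k + 3)) (0, 0, ((1 : F), (0 : F))) (0, 0, (s, 1)))
  have h0 : ((0, 0, (s, 1)) : (Fin (k + 3) → F) × (Fin (k + 3) → F) × (F × F)) ∈ S :=
    Submodule.subset_span (Or.inr (Or.inl rfl))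
  have hP : hypTower (k + 3) (binQ a b) (0, 0, ((1 : F), (0 : F))) = 1 := by simp [hypTower_apply, binQ_apply]
  have hB : polar (hypTower (k + 3) (binQ a b)) (0, 0, (s, 1)) (0, 0, ((1 : F), (0 : F))) = 2 * s + a := by
    simp [polar, hypTower_apply, binQ_apply]; ring
  have h1 : ((0, 0, (1, 0)) : (Fin (k + 3) → F) × (Fin (k + 3) → F) × (F × F)) ∈ S := by
    have h' : _ ∈ S := Submodule.subset_span (Or.inr (Or.inr rfl))
    rw [hB, hP, div_one] at h'
    have := S.smul_mem (2 * s + a)⁻¹ (S.sub_mem h0 h')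
    rwa [sub_sub_cancel, inv_smul_smul₀ hs] at this
  have hz : ((0, 0, z) : (Fin (k + 3) → F) × (Fin (k + 3) → F) × (F × F))
      = (z.1 - z.2 * s) • (0, 0, ((1 : F), (0 : F))) + z.2 • (0, 0, (s, 1)) := by
    refine Prod.ext (by simp) (Prod.ext (by simp) (Prod.ext ?_ ?_)) <;> simp
  rw [hz]
  exact S.add_mem (S.smul_mem _ h1) (S.smul_mem _ h0)

end Cfsg.Agent.Lib.OrthGen
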