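import Cfsg.Agent.Lib.OrthGen.Frame

/-!
Two elements whose group contains all root groups at the first plane of a frame.
-/

set_option autoImplicit false

namespace Cfsg.Agent.Lib.OrthGen

open QuadraticMap
open Cfsg.Agent.Lib.Classical

variable {F : Type*} [Field F] {V : Type*} [AddCommGroup V] [Module F V] {P : QuadraticForm F V}
  {N : ℕ} {e f : ℕ → V} {w w0 : V}

theorem flip_conj {g : V ≃ₗ[F] V} (hg : g ∈ isoGroup (F := F) P) (u v r : V) :
    g * flip P u v r * g⁻¹ = flip P (g u) (g v) (g r) := by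
  simp only [flip, hg r]
  rw [← map_smul, ← eich_conj hg, ← eich_conj hg]
  group

theorem tor_mul {u v r : V} (hu : P u = 0) (hv : P v = 0) (huv : polar P u v = 1) (hur : polar P u r = 0)
    (hvr : polar P v r = 0) (hr : P r ≠ 0) {μ ν : F} (hμ : μ ≠ 0) (hν : ν ≠ 0) :
    tor P u v r μ * tor P u v r ν = tor P u v r (μ * ν) := by
  have hvu : polar P v u = 1 := by rw [polar_comm, huv]
  refine LinearEquiv.ext fun z => ?_
  rw [LinearEquiv.mul_apply, tor_apply hu hv huv hur hvr hr hμ, tor_apply hu hv huv hur hvr hr hν,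
    tor_apply hu hv huv hur hvr hr (mul_ne_zero hμ hν)]
  simp only [polar_add_left, polar_smul_left, polar_self, hu, hv, huv, hvu, smul_zero, smul_eq_mul]
  match_scalars <;> field_simp <;> ring

theorem tor_one {u v r : V} (hu : P u = 0) (hv : P v = 0) (huv : polar P u v = 1) (hur : polar P u r = 0)
    (hvr : polar P v r = 0) (hr : P r ≠ 0) : tor P u v r 1 = 1 := by
  refine LinearEquiv.ext fun z => ?_
  rw [tor_apply hu hv huv hur hvr hr one_ne_zero]
  simp

theorem tor_pow {u v r : V} (hu : P u = 0) (hv : P v = 0) (huv : polar P u v = 1) (hur : polar P u r = 0)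
    (hvr : polar P v r = 0) (hr : P r ≠ 0) {μ : F} (hμ : μ ≠ 0) (k : ℕ) :
    tor P u v r μ ^ k = tor P u v r (μ ^ k) := by
  induction k with
  | zero => rw [pow_zero, pow_zero, tor_one hu hv huv hur hvr hr]
  | succ k ih => rw [pow_succ, ih, tor_mul hu hv huv hur hvr hr (pow_ne_zero _ hμ) hμ, pow_succ]

theorem flip_mul_self {u v r : V} (hu : P u = 0) (hv : P v = 0) (huv : polar P u v = 1) (hur : polar P u r = 0)
    (hvr : polar P v r = 0) (hr : P r ≠ 0) : flip P u v r * flip P u v r = 1 := by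
  have := tor_one hu hv huv hur hvr hr
  rwa [tor, one_smul] at this

/-- A flip conjugated by another flip on the same plane. -/
theorem flip_conj_flip {u v r s : V} (hu : P u = 0) (hv : P v = 0) (huv : polar P u v = 1) (hur : polar P u r = 0)
    (hvr : polar P v r = 0) (hus : polar P u s = 0) (hvs : polar P v s = 0) (hr : P r ≠ 0) (hs : P s = P r) :
    flip P u v r * flip P u v s * flip P u v r = flip P u v (s - (polar P s r / P r) • r) := by
  have hs0 : P s ≠ 0 := hs ▸ hr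
  have hvu : polar P v u = 1 := by rw [polar_comm, huv]
  have hsu : polar P s u = 0 := by rw [polar_comm, hus]
  have hsv : polar P s v = 0 := by rw [polar_comm, hvs]
  have hru : polar P r u = 0 := by rw [polar_comm, hur]
  have hrv : polar P r v = 0 := by rw [polar_comm, hvr]
  have hinv : flip P u v r * flip P u v s * flip P u v r = flip P u v r * flip P u v s * (flip P u v r)⁻¹ := by
    rw [inv_eq_of_mul_eq_one_right (flip_mul_self hu hv huv hur hvr hr)]
  have hg := Gamma_le_iso (flip_mem_Gamma (P := P) u v r)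
  have eu : flip P u v r u = (-(P r)⁻¹) • v := by
    rw [flip_apply hu hv huv hur hvr hr, huv, hur, polar_self, hu]; simp
  have ev : flip P u v r v = (-P r) • u := by
    rw [flip_apply hu hv huv hur hvr hr, hvu, hvr, polar_self, hv]; simp
  have es : flip P u v r s = s - (polar P s r / P r) • r := by
    rw [flip_apply hu hv huv hur hvr hr, hsu, hsv]; simp
  rw [hinv, flip_conj hg, eu, ev, es]
  set t := s - (polar P s r / P r) • r with ht
  have hQt : P t = P r := by rw [← es, hg s, hs]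
  have hut : polar P u t = 0 := by simp [ht, hus, hur]
  have hvt : polar P v t = 0 := by simp [ht, hvs, hvr]
  have ht0 : P t ≠ 0 := hQt ▸ hr
  refine LinearEquiv.ext fun z => ?_
  rw [flip_apply (by simp [QuadraticMap.map_smul, hv]) (by simp [QuadraticMap.map_smul, hu])
      (by rw [polar_smul_left, polar_smul_right, hvu]; simp [hr]) (by simp [hvt]) (by simp [hut]) ht0,
    flip_apply hu hv huv hut hvt ht0, hQt]
  simp only [polar_smul_right, smul_eq_mul]
  match_scalars <;> field_simp <;> ring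

variable [Finite F]

theorem exists_gen_big (hF : Frame P N e f w w0) (hN : 2 ≤ N) (hq : 4 ≤ Nat.card F) :
    ∃ a ∈ Gamma P, ∃ b ∈ Gamma P, ∀ x ∈ Submodule.span F (spanSet P N e f w w0),
      eich P (e 0) x ∈ Subgroup.closure {a, b} ∧ eich P (f 0) x ∈ Subgroup.closure {a, b} := by
  obtain ⟨c, hcgen⟩ := IsCyclic.exists_monoid_generator (α := Fˣ)
  have hord : orderOf c = Nat.card F - 1 := by
    rw [orderOf_eq_card_of_forall_mem_powers hcgen, Nat.card_units]
  have hc2 : c ^ 2 ≠ 1 := fun e => by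
    have := Nat.le_of_dvd (by omega) (orderOf_dvd_of_pow_eq_one e)
    omega
  set μ : F := (c : F) with hμdef
  have hμ : μ ≠ 0 := c.ne_zero
  have h0 : (0 : ℕ) < N := by omega
  have hTor := fun {ν : F} (hν : ν ≠ 0) (z : V) =>
    tor_apply (hF.Qe 0) (hF.Qf 0) (hF.ef 0 h0) (hF.ew 0) (hF.fw 0) hF.hq hν z
  set h : V ≃ₗ[F] V := tor P (e 0) (f 0) w μ with hh
  set σ : V ≃ₗ[F] V := cox P N e f w with hσdef
  set T : V ≃ₗ[F] V := eich P (f 0) (e 1) with hT
  set U : V ≃ₗ[F] V := eich P (e 1) w0 with hU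
  have hΓh : h ∈ Gamma P := tor_mem_Gamma _ _ _ _
  refine ⟨h * U, mul_mem hΓh (eich_mem_Gamma _ _), T * σ, mul_mem (eich_mem_Gamma _ _) cox_mem_Gamma, ?_⟩
  set L := Subgroup.closure ({h * U, T * σ} : Set (V ≃ₗ[F] V))
  have haL : h * U ∈ L := Subgroup.subset_closure (Or.inl rfl)
  have hbL : T * σ ∈ L := Subgroup.subset_closure (Or.inr rfl)
  have hL : L ≤ isoGroup (F := F) P := (Subgroup.closure_le _).2 fun x hx => Gamma_le_iso (by
    rcases hx with rfl | rfl
    exacts [mul_mem hΓh (eich_mem_Gamma _ _), mul_mem (eich_mem_Gamma _ _) cox_mem_Gamma])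
  have hhi : h ∈ isoGroup (F := F) P := Gamma_le_iso hΓh
  have hσi : σ ∈ isoGroup (F := F) P := Gamma_le_iso cox_mem_Gamma
  have hfix : ∀ {ν : F} (_ : ν ≠ 0) (z : V), polar P z (e 0) = 0 → polar P z (f 0) = 0 →
      tor P (e 0) (f 0) w ν z = z := fun {ν} hν z h1 h2 => by rw [hTor hν, h1, h2]; simp
  have htf : ∀ {ν : F} (_ : ν ≠ 0), tor P (e 0) (f 0) w ν (f 0) = (ν * ν)⁻¹ • f 0 := fun {ν} hν => by
    rw [hTor hν, hF.ff, hF.fe h0]; module
  have hte : ∀ {ν : F} (_ : ν ≠ 0), tor P (e 0) (f 0) w ν (e 0) = (ν * ν) • e 0 := fun {ν} hν => by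
    rw [hTor hν, hF.ee, hF.ef 0 h0]; module
  have hpowEq := fun k : ℕ => tor_pow (hF.Qe 0) (hF.Qf 0) (hF.ef 0 h0) (hF.ew 0) (hF.fw 0) hF.hq hμ k
  have he10 : polar P (e 1) (e 0) = 0 := hF.ee _ _
  have he1f : polar P (e 1) (f 0) = 0 := hF.ef_ne _ _ one_ne_zero
  have hu1 : polar P (f 0) (e 1) = 0 := hF.fe_ne zero_ne_one
  have hu1' : ∀ a : F, polar P (f 0) (a • e 1) = 0 := fun a => by rw [polar_smul_right, hu1, smul_zero]
  have hcomm : Commute h U := by
    have := eich_conj hhi (e 1) w0 (P := P)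
    rw [hh, hfix hμ _ he10 he1f, hfix hμ _ (hF.w0e 0) (hF.w0f 0), ← hh] at this
    exact mul_inv_eq_iff_eq_mul.1 this
  have hhord : h ^ (Nat.card F - 1) = 1 := by
    rw [hh, hpowEq, hμdef, ← Units.val_pow_eq_pow_val, ← hord, pow_orderOf_eq_one, Units.val_one,
      tor_one (hF.Qe 0) (hF.Qf 0) (hF.ef 0 h0) (hF.ew 0) (hF.fw 0) hF.hq]
  have hU1 : U⁻¹ ∈ L := by
    have := L.pow_mem haL (Nat.card F - 1)
    rw [hcomm.mul_pow, hhord, one_mul, hU, eich_pow (hF.Qe 1) (hF.ew0 1)] at this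
    rw [hU, eich_inv (hF.Qe 1) (hF.ew0 1)]
    have ftF : Fintype F := Fintype.ofFinite F
    rwa [Nat.cast_sub (by omega : 1 ≤ Nat.card F), Nat.card_eq_fintype_card, FiniteField.cast_card_eq_zero,
      zero_sub, Nat.cast_one, neg_one_smul] at this
  have hhL : h ∈ L := by simpa using L.mul_mem haL hU1
  have hUL : U ∈ L := by simpa using L.inv_mem hU1
  -- the root group of `T`
  obtain ⟨hσe, hσf⟩ := cox_ev hF (i := 0) (show 0 + 1 < N by omega)
  obtain ⟨hσel, -⟩ := cox_ev_last hF (show 1 ≤ N by omega)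
  have hse1 : σ.symm (e 1) = -e 0 := σ.symm_apply_eq.2 (by rw [map_neg, hσdef, hσe, neg_neg])
  have hsf0 : σ.symm (f 0) = (-P w) • e (N - 1) := σ.symm_apply_eq.2 (by
    rw [map_smul, hσdef, hσel, smul_smul, neg_mul_neg, mul_inv_cancel₀ hF.hq, one_smul])
  set α : F := (μ * μ)⁻¹ with hα
  set γ : F := α - α * α with hγ
  set K : V ≃ₗ[F] V := σ * h⁻¹ * σ⁻¹ with hK
  set G : V ≃ₗ[F] V := h * K with hG
  have hGi : G ∈ isoGroup (F := F) P := mul_mem hhi (mul_mem (mul_mem hσi (inv_mem hhi)) (inv_mem hσi))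
  have hhf : h (f 0) = α • f 0 := by rw [hh, htf hμ]
  have hhe1 : h (e 1) = e 1 := by rw [hh, hfix hμ _ he10 he1f]
  have hGf : G (f 0) = α • f 0 := by
    have hlast : h.symm (e (N - 1)) = e (N - 1) := h.symm_apply_eq.2 (by
      rw [hh, hfix hμ _ (hF.ee _ _) (hF.ef_ne _ _ (by omega))])
    show h (σ (h.symm (σ.symm (f 0)))) = _
    rw [hsf0, map_smul, hlast, ← hsf0, σ.apply_symm_apply, hhf]
  have hGe : G (e 1) = α • e 1 := by
    have hfirst : h.symm (e 0) = α • e 0 := h.symm_apply_eq.2 (by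
      rw [map_smul, hh, hte hμ, smul_smul, hα, inv_mul_cancel₀ (mul_ne_zero hμ hμ), one_smul])
    show h (σ (h.symm (σ.symm (e 1)))) = _
    rw [hse1, map_neg, hfirst, map_neg, map_smul, hσdef, hσe, smul_neg, neg_neg, map_smul, hhe1]
  have hT1 : h * T = eich P (f 0) (α • e 1) * h := by
    rw [← mul_inv_eq_iff_eq_mul, hT, eich_conj hhi, hhf, hhe1, eich_smul_left (hF.Qf 0) hu1]
  have hTG : G * eich P (f 0) ((-1 : F) • e 1) = eich P (f 0) (-(α * α) • e 1) * G := by
    rw [← mul_inv_eq_iff_eq_mul, eich_conj hGi, map_smul, hGf, hGe, smul_smul, neg_one_mul,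
      eich_smul_left (hF.Qf 0) (hu1' _), smul_smul, mul_neg]
  have hTinv : T⁻¹ = eich P (f 0) ((-1 : F) • e 1) := by rw [hT, eich_inv (hF.Qf 0) hu1, neg_one_smul]
  have hb' : eich P (f 0) (γ • e 1) * G ∈ L := by
    have := L.mul_mem (L.mul_mem (L.mul_mem hhL hbL) (L.inv_mem hhL)) (L.inv_mem hbL)
    convert this using 1
    calc eich P (f 0) (γ • e 1) * G
        = eich P (f 0) (α • e 1) * (eich P (f 0) (-(α * α) • e 1) * G) := by
          rw [← mul_assoc (eich P (f 0) (α • e 1)), eich_add (hF.Qf 0) (hu1' _) (hu1' _), ← _root_.add_smul, hγ,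
            sub_eq_add_neg]
      _ = eich P (f 0) (α • e 1) * h * (K * T⁻¹) := by rw [← hTG, hG, hTinv]; simp only [mul_assoc]
      _ = _ := by rw [← hT1, hK]; group
  have hhK : Commute h K := by
    have hK' : h * (σ * h * σ⁻¹) = σ * h * σ⁻¹ * h := by
      have e' : σ * h * σ⁻¹ = tor P (σ (e 0)) (σ (f 0)) (σ w) μ := by
        rw [hh, tor, tor, ← map_smul σ, ← flip_conj hσi, ← flip_conj hσi]; group
      have hσw : ∀ v, polar P (σ v) (σ w) = polar P v w := fun v => isometry_polar hσi v w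
      have hap := fun z => tor_apply (μ := μ) (P := P) (e := σ (e 0)) (f := σ (f 0)) (r := σ w) (by rw [hσi, hF.Qe])
        (by rw [hσi, hF.Qf]) (by rw [isometry_polar hσi, hF.ef 0 h0]) (by rw [hσw, hF.ew]) (by rw [hσw, hF.fw])
        (by rw [hσi]; exact hF.hq) hμ z
      refine LinearEquiv.ext fun z => ?_
      rw [e', LinearEquiv.mul_apply, LinearEquiv.mul_apply, hh, hTor hμ, hap, hap, hTor hμ, hσdef, hσe, hσf]
      simp only [polar_add_left, polar_smul_left, polar_neg_left, polar_neg_right, hF.ee, hF.ff,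
        hF.ef_ne _ _ (show 0 ≠ 0 + 1 by omega), hF.ef_ne _ _ (show 0 + 1 ≠ 0 by omega),
        hF.fe_ne (show 0 ≠ 0 + 1 by omega), hF.fe_ne (show 0 + 1 ≠ 0 by omega), smul_eq_mul]
      module
    have := (show Commute h (σ * h * σ⁻¹) from hK').inv_right
    rwa [show (σ * h * σ⁻¹)⁻¹ = K by rw [hK]; group] at this
  have hl : eich P (f 0) ((α * γ - γ) • e 1) ∈ L := by
    have := L.mul_mem (L.mul_mem (L.mul_mem hhL hb') (L.inv_mem hhL)) (L.inv_mem hb')
    convert this using 1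
    have eG : Commute h G := (Commute.refl h).mul_right hhK
    have e1 : h * (eich P (f 0) (γ • e 1) * G) * h⁻¹ = eich P (f 0) ((α * γ) • e 1) * G := by
      have hc : h * eich P (f 0) (γ • e 1) = eich P (f 0) ((α * γ) • e 1) * h := by
        rw [← mul_inv_eq_iff_eq_mul, eich_conj hhi, map_smul, hhf, hhe1, eich_smul_left (hF.Qf 0) (hu1' _),
          smul_smul]
      rw [← mul_assoc, hc, mul_assoc _ h G, eG.eq, ← mul_assoc, mul_inv_cancel_right]
    rw [e1, _root_.mul_inv_rev, mul_assoc, mul_inv_cancel_left, eich_inv (hF.Qf 0) (hu1' _),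
      eich_add (hF.Qf 0) (hu1' _) (by rw [← neg_smul]; exact hu1' _), ← neg_smul, ← _root_.add_smul, sub_eq_add_neg]
  have hne : α * γ - γ ≠ 0 := by
    have hα0 : α ≠ 0 := inv_ne_zero (mul_ne_zero hμ hμ)
    have hα1 : α ≠ 1 := fun e => hc2 (Units.ext (by
      rw [pow_two, Units.val_mul, Units.val_one, ← hμdef]; exact inv_eq_one.1 e))
    rw [← sub_one_mul, hγ, ← mul_one_sub]
    exact mul_ne_zero (sub_ne_zero.2 hα1) (mul_ne_zero hα0 (sub_ne_zero.2 fun e => hα1 e.symm))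
  have hpow : ∀ z : F, z ≠ 0 → ∃ k : ℕ, μ ^ k = z := fun z hz => by
    obtain ⟨k, hk⟩ := hcgen (Units.mk0 z hz)
    exact ⟨k, by rw [hμdef, ← Units.val_pow_eq_pow_val]; exact congrArg Units.val hk⟩
  have hTT : RootIn P L (f 0) (e 1) := rootIn_of_squares hne (hF.Qf 0) hu1 fun z hz => by
    obtain ⟨k, hk⟩ := hpow z⁻¹ (inv_ne_zero hz)
    have := L.mul_mem (L.mul_mem (L.pow_mem hhL k) hl) (L.inv_mem (L.pow_mem hhL k))
    rw [eich_conj (pow_mem hhi k), map_smul, hh, hpowEq, hk, htf (inv_ne_zero hz), hfix (inv_ne_zero hz) _ he10 he1f,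
      eich_smul_left (hF.Qf 0) (hu1' _), smul_smul, _root_.mul_inv_rev, inv_inv] at this
    exact this
  have hσL : σ ∈ L := by
    have hT1' := hTT 1
    rw [one_smul, ← hT] at hT1'
    simpa using L.mul_mem (L.inv_mem hT1') hbL
  -- the root group of `U`
  set y := σ⁻¹ w0 with hy
  have hσy : σ y = w0 := σ.apply_symm_apply w0
  have hye : polar P y (e 0) = 0 := by
    rw [← isometry_polar hσi, hσy, hσdef, hσe, polar_neg_right, hF.w0e, neg_zero]
  have hyf : polar P y (f 0) = 0 := by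
    rw [← isometry_polar hσi, hσy, hσdef, hσf, polar_neg_right, hF.w0f, neg_zero]
  have hey : polar P (e 0) y = 0 := by rw [polar_comm, hye]
  have hey' : ∀ a : F, polar P (e 0) (a • y) = 0 := fun a => by rw [polar_smul_right, hey, smul_zero]
  have hU' : eich P (e 0) ((-1 : F) • y) ∈ L := by
    have := L.mul_mem (L.mul_mem (L.inv_mem hσL) hUL) (L.inv_mem (L.inv_mem hσL))
    rw [hU, eich_conj (inv_mem hσi), ← hy, show σ⁻¹ (e 1) = σ.symm (e 1) from rfl, hse1, ← neg_one_smul F (e 0),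
      eich_smul_left (hF.Qe 0) hey] at this
    exact this
  have hUU : RootIn P L (e 0) y := rootIn_of_squares (neg_ne_zero.2 one_ne_zero) (hF.Qe 0) hey fun z hz => by
    obtain ⟨k, hk⟩ := hpow z hz
    have := L.mul_mem (L.mul_mem (L.pow_mem hhL k) hU') (L.inv_mem (L.pow_mem hhL k))
    rw [eich_conj (pow_mem hhi k), map_smul, hh, hpowEq, hk, hte hz, hfix hz _ hye hyf,
      eich_smul_left (hF.Qe 0) (hey' _), smul_smul] at this
    exact this
  have hU1' : RootIn P L (e 1) w0 := by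
    have := hUU.conj hL hσL
    rw [hσdef, hσe, ← hσdef, hσy, ← neg_one_smul F (e _), ← one_smul F w0] at this
    exact this.of_smul (by simp) one_ne_zero (hF.Qe _) (hF.ew0 _)
  exact fun x hx => first_plane_roots hF hL hN hσL hTT (show 1 < N by omega) (Or.inl hU1') hx

theorem exists_gen_small (hF : Frame P N e f w w0) (hN : 3 ≤ N) (hq : Nat.card F = 2 ∨ Nat.card F = 3) :
    ∃ a ∈ Gamma P, ∃ b ∈ Gamma P, ∀ x ∈ Submodule.span F (spanSet P N e f w w0),
      eich P (e 0) x ∈ Subgroup.closure {a, b} ∧ eich P (f 0) x ∈ Subgroup.closure {a, b} := by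
  have hprime : (Nat.card F).Prime := by rcases hq with h | h <;> rw [h] <;> norm_num
  have hzero : (Nat.card F : F) = 0 := by
    have ftF : Fintype F := Fintype.ofFinite F
    rw [Nat.card_eq_fintype_card, FiniteField.cast_card_eq_zero]
  set q : F := P w with hqd
  set β : F := polar P w0 w with hβ
  obtain ⟨t, k, hk, hkt⟩ : ∃ (t : F) (k : ℕ), (k : F) ≠ 0 ∧ (k = 2 ∧ t = 0 ∨ k = 3 ∧ t = q ∧ (2 : F) = 0) := by
    rcases hq with h | h <;> rw [h] at hzero <;> push_cast at hzero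
    · exact ⟨q, 3, fun e => one_ne_zero (α := F) (by push_cast at e; linear_combination e - hzero),
        Or.inr ⟨rfl, rfl, hzero⟩⟩
    · exact ⟨0, 2, fun e => one_ne_zero (α := F) (by push_cast at e; linear_combination hzero - e),
        Or.inl ⟨rfl, rfl⟩⟩
  have h2N : 2 < N := by omega
  set r1 : V := w0 + (q - P w0) • e 2 + f 2 with hr1
  set r2 : V := w + (t - β) • e 2 with hr2
  have he1 : polar P (e 2) r1 = 1 := by simp [hr1, hF.ew0 2, hF.ee, hF.ef 2 h2N]
  have hQ1 : P r1 = q := by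
    simp [hr1, QuadraticMap.map_add (⇑P), QuadraticMap.map_smul, hF.Qe, hF.Qf, hF.w0e, hF.w0f, hF.ef 2 h2N]
  have hQ2 : P r2 = q := by
    simp [hr2, QuadraticMap.map_add (⇑P), QuadraticMap.map_smul, hF.Qe, hF.we, hqd]
  have hB : polar P r1 r2 = t := by
    simp [hr1, hr2, hF.w0e, hF.ew, hF.fw, hF.ee, hF.fe h2N, ← hβ]
  have hB' : polar P r2 r1 = t := by rw [polar_comm, hB]
  have hperp : ∀ i, i ≠ 2 →
      polar P (e i) r1 = 0 ∧ polar P (f i) r1 = 0 ∧ polar P (e i) r2 = 0 ∧ polar P (f i) r2 = 0 := fun i hi => by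
    simp [hr1, hr2, hF.ew0, hF.fw0, hF.ew, hF.fw, hF.ee, hF.ff, hF.ef_ne _ _ hi, hF.fe_ne hi]
  obtain ⟨he0r1, hf0r1, he0r2, hf0r2⟩ := hperp 0 (by omega)
  obtain ⟨he1r1, hf1r1, he1r2, -⟩ := hperp 1 (by omega)
  have hq0 : q ≠ 0 := hF.hq
  have h0 : 0 < N := by omega
  have hfl1 := flip_apply (hF.Qe 0) (hF.Qf 0) (hF.ef 0 h0) he0r1 hf0r1 (by rw [hQ1]; exact hq0)
  have hfl2 := flip_apply (hF.Qe 0) (hF.Qf 0) (hF.ef 0 h0) he0r2 hf0r2 (by rw [hQ2]; exact hq0)
  have hs1 := flip_mul_self (hF.Qe 0) (hF.Qf 0) (hF.ef 0 h0) he0r1 hf0r1 (by rw [hQ1]; exact hq0)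
  have hs2 := flip_mul_self (hF.Qe 0) (hF.Qf 0) (hF.ef 0 h0) he0r2 hf0r2 (by rw [hQ2]; exact hq0)
  have hc12 := flip_conj_flip (hF.Qe 0) (hF.Qf 0) (hF.ef 0 h0) he0r1 hf0r1 he0r2 hf0r2 (by rw [hQ1]; exact hq0)
    (by rw [hQ1, hQ2])
  have hc21 := flip_conj_flip (hF.Qe 0) (hF.Qf 0) (hF.ef 0 h0) he0r2 hf0r2 he0r1 hf0r1 (by rw [hQ2]; exact hq0)
    (by rw [hQ1, hQ2])
  rw [hB', hQ1] at hc12
  rw [hB, hQ2] at hc21
  set F1 := flip P (e 0) (f 0) r1
  set F2 := flip P (e 0) (f 0) r2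
  set z := F1 * F2 with hz
  set T : V ≃ₗ[F] V := eich P (f 0) (e 1) with hT
  have hzk : z ^ k = 1 := by
    rcases hkt with ⟨rfl, rfl⟩ | ⟨rfl, rfl, h2⟩
    · simp only [zero_div, zero_smul, sub_zero] at hc12
      rw [hz, pow_two, ← mul_assoc, hc12, hs2]
    · have hneg : ∀ v : V, -v = v := fun v => by
        rw [← neg_one_smul F v, show (-1 : F) = 1 by linear_combination -h2, one_smul]
      rw [div_self hq0, one_smul, sub_eq_add_neg, hneg] at hc12 hc21
      rw [add_comm r1 r2] at hc21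
      have hF1 : F1⁻¹ = F1 := inv_eq_of_mul_eq_one_right hs1
      have hF2 : F2⁻¹ = F2 := inv_eq_of_mul_eq_one_right hs2
      calc z ^ 3 = F1 * F2 * F1 * (F2 * F1 * F2) := by rw [hz, pow_succ, pow_two]; simp only [mul_assoc]
        _ = F1 * F2 * F1 * (F1 * F2 * F1) := by rw [hc21, ← hc12]
        _ = 1 := by
          rw [show F1 * F2 * F1 * (F1 * F2 * F1) = F1 * (F2 * ((F1 * F1) * F2)) * F1 by simp only [mul_assoc],
            hs1, one_mul, hs2, mul_one, hs1]
  have hzΓ : z ∈ Gamma P := mul_mem (flip_mem_Gamma _ _ _) (flip_mem_Gamma _ _ _)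
  refine ⟨z * T, mul_mem hzΓ (eich_mem_Gamma _ _), cox P N e f w, cox_mem_Gamma, ?_⟩
  set L := Subgroup.closure ({z * T, cox P N e f w} : Set (V ≃ₗ[F] V))
  have haL : z * T ∈ L := Subgroup.subset_closure (Or.inl rfl)
  have hσL : cox P N e f w ∈ L := Subgroup.subset_closure (Or.inr rfl)
  have hL : L ≤ isoGroup (F := F) P := (Subgroup.closure_le _).2 fun x hx => Gamma_le_iso (by
    rcases hx with rfl | rfl
    exacts [mul_mem hzΓ (eich_mem_Gamma _ _), cox_mem_Gamma])
  have hzf : z (f 0) = f 0 := by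
    show F1 (F2 (f 0)) = _
    rw [hfl2, hfl1, hQ1, hQ2]
    simp only [polar_add_left, polar_sub_left, polar_smul_left, polar_neg_left, hF.ff, hF.fe h0, hF.ee, hF.ef 0 h0,
      hf0r1, hf0r2, he0r1, smul_eq_mul, zero_div, zero_smul, sub_zero, add_zero, one_smul]
    match_scalars <;> field_simp <;> ring
  have hfixz : ∀ v : V, polar P v (e 0) = 0 → polar P v (f 0) = 0 → polar P v r2 = 0 →
      z v = v - (polar P v r1 / q) • r1 := fun v h1 h2 h3 => by
    show F1 (F2 v) = _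
    rw [hfl2, h1, h2, h3]
    simp only [zero_div, zero_smul, sub_zero, add_zero]
    rw [hfl1, h1, h2, hQ1]
    simp
  have hze1 : z (e 1) = e 1 := by
    rw [hfixz _ (hF.ee _ _) (hF.ef_ne _ _ one_ne_zero) he1r2, he1r1]; simp
  have hu1 : polar P (f 0) (e 1) = 0 := hF.fe_ne zero_ne_one
  have hc : Commute z T := by
    have := eich_conj (Gamma_le_iso hzΓ) (f 0) (e 1)
    rw [hzf, hze1] at this
    exact mul_inv_eq_iff_eq_mul.1 this
  have hTT : RootIn P L (f 0) (e 1) := rootIn_of_prime hprime hk (hF.Qf 0) hu1 (by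
    have := L.pow_mem haL k
    rwa [hc.mul_pow, hzk, one_mul, hT, eich_pow (hF.Qf 0) hu1] at this)
  have hzL : z ∈ L := by
    have hT1 := hTT 1
    rw [one_smul, ← hT] at hT1
    simpa using L.mul_mem haL (L.inv_mem hT1)
  obtain ⟨-, -, hfe, hff⟩ := planes_roots hF hL (by omega) hσL hTT h0 h2N (by omega)
  have hfe0 : polar P (f 0) (e 2) = 0 := hF.fe_ne (by omega)
  have hU : RootIn P L (f 0) w0 := by
    have h1 := hfe.conj hL hzL
    have hze : z (e 2) = e 2 - q⁻¹ • r1 := by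
      rw [hfixz _ (hF.ee _ _) (hF.ef_ne _ _ (by omega)) (by simp [hr2, hF.ew, hF.ee]), he1, one_div]
    rw [hzf, hze] at h1
    have e1 : polar P (f 0) (e 2 - q⁻¹ • r1) = 0 := by simp [hfe0, hf0r1]
    have := (h1.smul_right (-q)).add ((hfe.smul_right (P w0)).add (hff.smul_right (-1)) (hF.Qf 0)
      (by simp [hfe0]) (by simp [hF.ff])) (hF.Qf 0) (by simp [e1]) (by simp [hfe0, hF.ff])
    convert this using 1
    rw [hr1]
    match_scalars <;> field_simp <;> ring
  exact fun x hx => first_plane_roots hF hL (by omega) hσL hTT h0 (Or.inr hU) hx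

theorem exists_gen (hF : Frame P N e f w w0) (hN : 3 ≤ N) :
    ∃ a ∈ Gamma P, ∃ b ∈ Gamma P, ∀ x ∈ Submodule.span F (spanSet P N e f w w0),
      eich P (e 0) x ∈ Subgroup.closure {a, b} ∧ eich P (f 0) x ∈ Subgroup.closure {a, b} := by
  by_cases h4 : 4 ≤ Nat.card F
  · exact exists_gen_big hF (by omega) h4
  · have h2 : 1 < Nat.card F := Finite.one_lt_card
    exact exists_gen_small hF hN (by omega)

end Cfsg.Agent.Lib.OrthGen
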